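import Groth.Agent.QCoh.Qcqs
import Groth.Agent.QCoh.ClosedPush

/-!
A morphism of quasi-coherent modules bijective on the members of an affine cover is an isomorphism.
-/

universe u

open CategoryTheory AlgebraicGeometry TopologicalSpace Opposite Groth.Agent.QCoh

set_option backward.isDefEq.respectTransparency false
set_option backward.isDefEq.respectTransparency.types false

namespace Groth.Agent.GrModX

variable {X : Scheme.{u}} {M N : X.Modules} (φ : M ⟶ N)

/-- Bijectivity on an affine open passes to its basic opens. -/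
theorem bijective_app_basicOpen_of_qcoh (hM : Coh.IsQCoh M) (hN : Coh.IsQCoh N) {U : X.Opens}
    (hU : IsAffineOpen U) (h : Function.Bijective (φ.app U)) (f : Γ(X, U)) :
    Function.Bijective (φ.app (X.basicOpen f)) := by
  let fD : Γ(X, X.basicOpen f) := X.presheaf.map (homOfLE (X.basicOpen_le f)).op f
  have hu : IsUnit fD := RingedSpace.isUnit_res_basicOpen _ f
  constructor
  · refine (injective_iff_map_eq_zero _).2 fun x hx => ?_
    obtain ⟨n, t, ht⟩ := exists_pow_smul_eq_map_of_isQuasiSeparated hM hU.isCompact hU.isQuasiSeparated f x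
    obtain ⟨m, hm⟩ := exists_pow_smul_eq_zero_of_isCompact hN hU.isCompact f (φ.app U t) (by
      rw [← map_app_comm, ht, Scheme.Modules.Hom.app_smul, hx, smul_zero])
    have h0 : f ^ m • t = 0 := h.1 (by rw [Scheme.Modules.Hom.app_smul, hm, map_zero])
    have h1 := congrArg (M.presheaf.map (homOfLE (X.basicOpen_le f)).op) h0
    rw [map_zero, map_smul', ht, smul_smul, map_pow, ← pow_add] at h1
    exact ((hu.pow _).smul_eq_zero).1 h1
  · intro y
    obtain ⟨n, t, ht⟩ := exists_pow_smul_eq_map_of_isQuasiSeparated hN hU.isCompact hU.isQuasiSeparated f y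
    obtain ⟨s, rfl⟩ := h.2 t
    obtain ⟨c, hc⟩ := hu.pow n
    refine ⟨(↑c⁻¹ : Γ(X, X.basicOpen f)) • M.presheaf.map (homOfLE (X.basicOpen_le f)).op s, ?_⟩
    rw [Scheme.Modules.Hom.app_smul, map_app_comm, ht, ← hc, smul_smul, Units.inv_mul, one_smul]

/-- A morphism of quasi-coherent modules bijective on an affine cover is an isomorphism. -/
theorem isIso_of_bijective_affineCover (hM : Coh.IsQCoh M) (hN : Coh.IsQCoh N) {ι : Type*}
    (U : ι → X.Opens) (hU : ∀ x : X, ∃ i, x ∈ U i) (hA : ∀ i, IsAffineOpen (U i))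
    (h : ∀ i, Function.Bijective (φ.app (U i))) : IsIso φ := by
  refine isIso_of_isBasis φ (B := {V | ∃ (i : ι) (f : Γ(X, U i)), X.basicOpen f = V}) ?_ ?_
  · refine Opens.isBasis_iff_nbhd.2 fun {V x} hx => ?_
    obtain ⟨i, hi⟩ := hU x
    obtain ⟨f, hfV, hxf⟩ := (hA i).exists_basicOpen_le ⟨x, hx⟩ hi
    exact ⟨_, ⟨i, f, rfl⟩, hxf, hfV⟩
  · rintro _ ⟨i, f, rfl⟩
    exact bijective_app_basicOpen_of_qcoh φ hM hN (hA i) (h i) f

end Groth.Agent.GrModX
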