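import Groth.Agent.GrModX.AffineIso
import Groth.Agent.GrModX.QCohTilde
import Groth.Agent.GrModX.Comap
import Groth.Agent.QCoh.PullbackBC
import Groth.Agent.QCoh.PullStalk

/-!
When the adjunct of `GrMod.comap` is an isomorphism: inverse images of `M(n)~` and base change.
-/

noncomputable section

universe u

open CategoryTheory CategoryTheory.Limits AlgebraicGeometry TopologicalSpace DirectSum Opposite Groth.Agent.QCoh
open HomogeneousLocalization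
open scoped HomogeneousIdeal

set_option backward.isDefEq.respectTransparency false
set_option backward.isDefEq.respectTransparency.types false
set_option linter.unusedSectionVars false

namespace Groth.Agent.GrModX

variable {A σ : Type u} [CommRing A] [SetLike σ A] [AddSubgroupClass σ A] (𝒜 : ℕ → σ) [GradedRing 𝒜]
  {M τ : Type u} [AddCommGroup M] [Module A M] [SetLike τ M] [AddSubgroupClass τ M] (ℳ : ℕ → τ)
  [SetLike.GradedSMul 𝒜 ℳ] [DirectSum.Decomposition ℳ]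

/-- The component of integral degree `z`. -/
def pz (z : ℤ) (m : M) : M := if 0 ≤ z then (decompose ℳ m z.toNat : M) else 0

lemma pz_add (z : ℤ) (m m' : M) : pz ℳ z (m + m') = pz ℳ z m + pz ℳ z m' := by
  unfold pz
  split_ifs with h
  · rw [decompose_add, DirectSum.add_apply, AddMemClass.coe_add]
  · rw [add_zero]

/-- The component of integral degree `z`, additively. -/
def pzHom (z : ℤ) : M →+ M := AddMonoidHom.mk' (pz ℳ z) (pz_add ℳ z)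

lemma pz_zero (z : ℤ) : pz ℳ z 0 = 0 := (pzHom ℳ z).map_zero

lemma deg_pz (z : ℤ) (m : M) : Deg ℳ z (pz ℳ z m) := by
  unfold pz
  split_ifs with h
  · exact Or.inr ⟨z.toNat, Int.toNat_of_nonneg h, SetLike.coe_mem _⟩
  · exact Or.inl rfl

lemma pz_of_mem_ne {z : ℤ} {i : ℕ} {m : M} (hm : m ∈ ℳ i) (h : (i : ℤ) ≠ z) : pz ℳ z m = 0 := by
  unfold pz
  split_ifs with h0
  · exact decompose_of_mem_ne ℳ hm fun e => h (by rw [e, Int.toNat_of_nonneg h0])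
  · rfl

lemma pz_of_mem {z : ℤ} {i : ℕ} {m : M} (hm : m ∈ ℳ i) (h : (i : ℤ) = z) : pz ℳ z m = m := by
  subst h
  rw [pz, if_pos (Int.natCast_nonneg i), Int.toNat_natCast]
  exact decompose_of_mem_same ℳ hm

lemma pz_of_deg {z : ℤ} {m : M} (h : Deg ℳ z m) : pz ℳ z m = m := by
  rcases h with rfl | ⟨i, hi, hm⟩
  · exact pz_zero ℳ z
  · exact pz_of_mem ℳ hm hi

lemma pz_pz (z : ℤ) (m : M) : pz ℳ z (pz ℳ z m) = pz ℳ z m := pz_of_deg ℳ (deg_pz ℳ z m)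

lemma pz_smul {e : ℕ} {a : A} (ha : a ∈ 𝒜 e) {z z' : ℤ} (hz : z' = e + z) (m : M) :
    pz ℳ z' (a • m) = a • pz ℳ z m := by
  induction m using Decomposition.inductionOn ℳ with
  | zero => rw [smul_zero, pz_zero, pz_zero, smul_zero]
  | @homogeneous i x =>
    have hax : a • (x : M) ∈ ℳ (e + i) := SetLike.GradedSMul.smul_mem ha x.2
    by_cases h : (i : ℤ) = z
    · rw [pz_of_mem ℳ x.2 h, pz_of_mem ℳ hax (by rw [hz, ← h, Nat.cast_add])]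
    · rw [pz_of_mem_ne ℳ x.2 h, pz_of_mem_ne ℳ hax (by rw [hz, Nat.cast_add]; omega), smul_zero]
  | add x y hx hy => rw [smul_add, pz_add, pz_add, hx, hy, smul_add]

variable {f : A} {d : ℕ} (hf : f ∈ 𝒜 d) (n : ℤ)

/-- The section `(component of m) / f ^ k` of `M(n)~` on `D(f)`. -/
def frac (k : ℕ) : M →+ Γ(GrMod.tilde 𝒜 ℳ n, Proj.basicOpen 𝒜 f) :=
  AddMonoidHom.mk'
    (fun m => fracSect 𝒜 ℳ n _ (j := k * d) (s := f ^ k) (m := pz ℳ ((k : ℤ) * d + n) m) (pow_mem_deg 𝒜 hf k)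
      (fun y => pow_notMem y.1.isPrime y.2 k) ((deg_pz ℳ _ m).congr (by push_cast; ring)))
    fun m m' => ext_val 𝒜 ℳ fun y => by
      rw [val_fracSect, pz_add]
      refine Eq.trans ?_ (LocalizedModule.mk_add_mk (S := y.1.asHomogeneousIdeal.toIdeal.primeCompl)).symm
      refine LocalizedModule.mk_eq.mpr ⟨1, ?_⟩
      simp only [one_smul, Submonoid.smul_def, Submonoid.coe_mul, smul_add, smul_smul]

lemma val_frac (k : ℕ) (m : M) (y : Proj.basicOpen 𝒜 f) :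
    GrMod.val (frac 𝒜 ℳ hf n k m) y =
      LocalizedModule.mk (pz ℳ ((k : ℤ) * d + n) m) ⟨f ^ k, pow_notMem y.1.isPrime y.2 k⟩ := rfl

lemma frac_pz (k : ℕ) (m : M) : frac 𝒜 ℳ hf n k (pz ℳ ((k : ℤ) * d + n) m) = frac 𝒜 ℳ hf n k m :=
  ext_val 𝒜 ℳ fun y => by rw [val_frac, val_frac, pz_pz]

lemma exists_eq_frac (hd : 0 < d) (x : Γ(GrMod.tilde 𝒜 ℳ n, Proj.basicOpen 𝒜 f)) :
    ∃ (k : ℕ) (m : M), Deg ℳ ((k : ℤ) * d + n) m ∧ x = frac 𝒜 ℳ hf n k m := by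
  obtain ⟨k, m, hm, hx⟩ := exists_frac 𝒜 ℳ hd hf n x
  exact ⟨k, m, hm, ext_val 𝒜 ℳ fun y => by rw [val_frac, pz_of_deg ℳ hm]; exact hx y⟩

lemma exists_pow_smul_of_frac_eq_zero (hd : 0 < d) {k : ℕ} {m : M} (hm : Deg ℳ ((k : ℤ) * d + n) m)
    (h : frac 𝒜 ℳ hf n k m = 0) : ∃ N : ℕ, f ^ N • m = 0 :=
  exists_pow_smul_eq_zero_of_mk 𝒜 hd hf hm fun y hy => by
    refine ⟨⟨f ^ k, pow_notMem y.isPrime hy k⟩, ?_⟩
    have := congrArg (fun s => GrMod.val s ⟨y, hy⟩) h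
    rw [val_frac, pz_of_deg ℳ hm] at this
    exact this

/-- A degree zero fraction as a function on `D(f)`. -/
def cf (l : ℕ) {a : A} (ha : a ∈ 𝒜 (l • d)) : Γ(Proj 𝒜, Proj.basicOpen 𝒜 f) :=
  Proj.awayToSection 𝒜 f (Away.mk 𝒜 hf l a ha)

lemma cf_congr (l : ℕ) {a a' : A} (ha : a ∈ 𝒜 (l • d)) (ha' : a' ∈ 𝒜 (l • d)) (h : a = a') :
    cf 𝒜 hf l ha = cf 𝒜 hf l ha' := by subst h; rfl

lemma cf_eq_of_mul (l l' : ℕ) {a a' : A} (ha : a ∈ 𝒜 (l • d)) (ha' : a' ∈ 𝒜 (l' • d))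
    (h : f ^ l' * a = f ^ l * a') : cf 𝒜 hf l ha = cf 𝒜 hf l' ha' := by
  unfold cf
  congr 1
  refine HomogeneousLocalization.val_injective _ ?_
  rw [Away.val_mk, Away.val_mk, Localization.mk_eq_mk_iff, Localization.r_iff_exists]
  exact ⟨1, by simpa using h⟩

lemma cf_mul (l l' : ℕ) {a a' : A} (ha : a ∈ 𝒜 (l • d)) (ha' : a' ∈ 𝒜 (l' • d)) (h : a * a' ∈ 𝒜 ((l + l') • d)) :
    cf 𝒜 hf (l + l') h = cf 𝒜 hf l ha * cf 𝒜 hf l' ha' := by
  unfold cf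
  rw [← map_mul]
  congr 1
  refine HomogeneousLocalization.val_injective _ ?_
  rw [HomogeneousLocalization.val_mul, Away.val_mk, Away.val_mk, Away.val_mk, Localization.mk_mul]
  exact congrArg _ (Subtype.ext (pow_add f l l'))

lemma cf_one (l : ℕ) (h : f ^ l ∈ 𝒜 (l • d)) : cf 𝒜 hf l h = 1 := by
  unfold cf
  rw [← map_one (Proj.awayToSection 𝒜 f).hom]
  congr 1
  refine HomogeneousLocalization.val_injective _ ?_
  rw [HomogeneousLocalization.val_one, Away.val_mk]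
  exact Localization.mk_self (⟨f ^ l, l, rfl⟩ : Submonoid.powers f)

lemma exists_eq_cf (hd : 0 < d) (c : Γ(Proj 𝒜, Proj.basicOpen 𝒜 f)) :
    ∃ (l : ℕ) (a : A) (ha : a ∈ 𝒜 (l • d)), c = cf 𝒜 hf l ha := by
  obtain ⟨q, rfl⟩ := (Proj.basicOpenIsoAway 𝒜 f hf hd).commRingCatIsoToRingEquiv.surjective c
  obtain ⟨l, a, ha, rfl⟩ := Away.mk_surjective 𝒜 hf q
  exact ⟨l, a, ha, rfl⟩

lemma frac_smul (k l : ℕ) {a : A} (ha : a ∈ 𝒜 (l • d)) (m : M) :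
    cf 𝒜 hf l ha • frac 𝒜 ℳ hf n k m = frac 𝒜 ℳ hf n (k + l) (a • m) := by
  refine ext_val 𝒜 ℳ fun y => ?_
  rw [val_smul, val_frac, cf, oval_awayToSection, LocalizedModule.mk_smul_mk, val_frac,
    pz_smul 𝒜 ℳ (z := (k : ℤ) * d + n) ha (by push_cast [smul_eq_mul]; ring)]
  refine congrArg _ (Subtype.ext ?_)
  show f ^ l * f ^ k = f ^ (k + l)
  rw [add_comm k l, pow_add]

lemma frac_raise (k l : ℕ) (m : M) : frac 𝒜 ℳ hf n (k + l) (f ^ l • m) = frac 𝒜 ℳ hf n k m := by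
  have h : f ^ l ∈ 𝒜 (l • d) := SetLike.pow_mem_graded l hf
  rw [← frac_smul 𝒜 ℳ hf n k l h, cf_one 𝒜 hf l h, one_smul]

end Groth.Agent.GrModX

namespace Groth.Agent.GrModX

variable {A σ : Type u} [CommRing A] [SetLike σ A] [AddSubgroupClass σ A] {𝒜 : ℕ → σ} [GradedRing 𝒜]
  {B σ' : Type u} [CommRing B] [SetLike σ' B] [AddSubgroupClass σ' B] {ℬ : ℕ → σ'} [GradedRing ℬ]
  {M τ : Type u} [AddCommGroup M] [Module A M] [SetLike τ M] [AddSubgroupClass τ M] {ℳ : ℕ → τ}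
  [SetLike.GradedSMul 𝒜 ℳ] [DirectSum.Decomposition ℳ]
  {N τ' : Type u} [AddCommGroup N] [Module B N] [SetLike τ' N] [AddSubgroupClass τ' N] {𝒩 : ℕ → τ'}
  [SetLike.GradedSMul ℬ 𝒩] [DirectSum.Decomposition 𝒩]
  (ψ : 𝒜 →+*ᵍ ℬ) (hψ : ℬ₊ ≤ (𝒜₊).map ψ)
  (v : M →ₛₗ[ψ.toRingHom] N) (hv : ∀ (i : ℕ) (m : M), m ∈ ℳ i → v m ∈ 𝒩 i) (n : ℤ)

include hv in
lemma pz_map (z : ℤ) (m : M) : pz 𝒩 z (v m) = v (pz ℳ z m) := by
  induction m using Decomposition.inductionOn ℳ with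
  | zero => rw [map_zero, pz_zero, pz_zero, map_zero]
  | @homogeneous i x =>
    by_cases h : (i : ℤ) = z
    · rw [pz_of_mem 𝒩 (hv i x x.2) h, pz_of_mem ℳ x.2 h]
    · rw [pz_of_mem_ne 𝒩 (hv i x x.2) h, pz_of_mem_ne ℳ x.2 h, map_zero]
  | add a b ha hb => rw [map_add, pz_add, pz_add, ha, hb, map_add]

variable {f : A} {d : ℕ} (hf : f ∈ 𝒜 d)

/-- The sections on `D(ψ f)` of the inverse image of `M(n)~`. -/
abbrev pullTop (f : A) : Type u :=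
  Γ((Scheme.Modules.pullback (Proj.map ψ hψ)).obj (GrMod.tilde 𝒜 ℳ n), Proj.basicOpen ℬ (ψ f))

lemma preimage_basicOpen_le (f : A) :
    Proj.basicOpen ℬ (ψ f) ≤ Proj.map ψ hψ ⁻¹ᵁ Proj.basicOpen 𝒜 f :=
  le_of_eq (Proj.map_preimage_basicOpen ψ hψ f).symm

lemma appLE_cf (l : ℕ) {a : A} (ha : a ∈ 𝒜 (l • d)) :
    (Proj.map ψ hψ).appLE (Proj.basicOpen 𝒜 f) (Proj.basicOpen ℬ (ψ f)) (preimage_basicOpen_le ψ hψ f)
      (cf 𝒜 hf l ha) = cf ℬ (ψ.map_mem hf) l (ψ.map_mem ha) := by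
  refine (congrArg (fun g => g (Away.mk 𝒜 hf l a ha)) (Proj.awayToSection_comp_appLE ψ hψ hf)).trans ?_
  show (Proj.awayToSection ℬ (ψ f)).hom (Away.map ψ f (Away.mk 𝒜 hf l a ha)) = _
  rw [Away.map_mk]
  rfl

/-- The pulled back fraction. -/
def pfrac (k : ℕ) : M →+ pullTop (ℳ := ℳ) ψ hψ n f :=
  AddMonoidHom.mk'
    (fun m => pullSec (Proj.map ψ hψ) (GrMod.tilde 𝒜 ℳ n) (preimage_basicOpen_le ψ hψ f) (frac 𝒜 ℳ hf n k m))
    fun m m' => by rw [map_add, pullSec_add]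

lemma pfrac_smul (k l : ℕ) {a : A} (ha : a ∈ 𝒜 (l • d)) (m : M) :
    pfrac (ℳ := ℳ) ψ hψ n hf (k + l) (a • m) = cf ℬ (ψ.map_mem hf) l (ψ.map_mem ha) • pfrac (ℳ := ℳ) ψ hψ n hf k m := by
  show pullSec _ _ _ _ = _ • pullSec _ _ _ _
  rw [← frac_smul 𝒜 ℳ hf n k l ha, pullSec_smul, appLE_cf]

lemma pfrac_raise (k l : ℕ) (m : M) : pfrac (ℳ := ℳ) ψ hψ n hf (k + l) (f ^ l • m) = pfrac (ℳ := ℳ) ψ hψ n hf k m := by
  show pullSec _ _ _ _ = pullSec _ _ _ _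
  rw [frac_raise]

lemma pfrac_pz (k : ℕ) (m : M) :
    pfrac (ℳ := ℳ) ψ hψ n hf k (pz ℳ ((k : ℤ) * d + n) m) = pfrac (ℳ := ℳ) ψ hψ n hf k m := by
  show pullSec _ _ _ _ = pullSec _ _ _ _
  rw [frac_pz]

/-- The adjunct of `GrMod.comap`. -/
abbrev adjunct : (Scheme.Modules.pullback (Proj.map ψ hψ)).obj (GrMod.tilde 𝒜 ℳ n) ⟶ GrMod.tilde ℬ 𝒩 n :=
  ((Scheme.Modules.pullbackPushforwardAdjunction (Proj.map ψ hψ)).homEquiv _ _).symm (GrMod.comap ψ hψ v hv n)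

lemma adjunct_pfrac (k : ℕ) (m : M) :
    (adjunct ψ hψ v hv n).app (Proj.basicOpen ℬ (ψ f)) (pfrac (ℳ := ℳ) ψ hψ n hf k m) =
      frac ℬ 𝒩 (ψ.map_mem hf) n k (v m) := by
  have e := ((Scheme.Modules.pullbackPushforwardAdjunction (Proj.map ψ hψ)).homEquiv _ _).apply_symm_apply
    (GrMod.comap ψ hψ v hv n)
  rw [Adjunction.homEquiv_unit] at e
  show (adjunct ψ hψ v hv n).app _ (pullSec _ _ _ _) = _
  rw [pullSec, map_app_comm]
  refine ext_val ℬ 𝒩 fun y => ?_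
  have e' : (adjunct ψ hψ v hv n).app (Proj.map ψ hψ ⁻¹ᵁ Proj.basicOpen 𝒜 f)
      (((Scheme.Modules.pullbackPushforwardAdjunction (Proj.map ψ hψ)).unit.app (GrMod.tilde 𝒜 ℳ n)).app _
        (frac 𝒜 ℳ hf n k m)) =
      (GrMod.comap ψ hψ v hv n).app (Proj.basicOpen 𝒜 f) (frac 𝒜 ℳ hf n k m) :=
    congrArg (fun χ : GrMod.tilde 𝒜 ℳ n ⟶ (Scheme.Modules.pushforward (Proj.map ψ hψ)).obj (GrMod.tilde ℬ 𝒩 n) =>
      χ.app (Proj.basicOpen 𝒜 f) (frac 𝒜 ℳ hf n k m)) e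
  erw [e']
  refine (GrMod.comap_app_val ψ hψ v hv n _ _ _).trans ?_
  rw [val_frac, GrMod.locModMap_mk, val_frac, pz_map ψ v hv]
  exact congrArg _ (Subtype.ext (map_pow ψ f k))

include hv in
/-- If a left inverse `Φ` of the comparison map exists, the comparison map is bijective on `D(ψ f)`. -/
theorem bijective_adjunct_of_inverse (hd : 0 < d) (Φ : ℕ → N →+ pullTop (ℳ := ℳ) ψ hψ n f)
    (hmul : ∀ (k l : ℕ) (b : B) (hb : b ∈ ℬ (l • d)) (j : ℕ) (m : M), m ∈ ℳ j → (j : ℤ) = (k : ℤ) * d + n →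
      Φ (k + l) (b • v m) = cf ℬ (ψ.map_mem hf) l hb • pfrac (ℳ := ℳ) ψ hψ n hf k m)
    (hraise : ∀ (k : ℕ) (y : N), Φ (k + 1) (ψ f • y) = Φ k y)
    (happ : ∀ (k : ℕ) (y : N),
      (adjunct ψ hψ v hv n).app (Proj.basicOpen ℬ (ψ f)) (Φ k y) = frac ℬ 𝒩 (ψ.map_mem hf) n k y) :
    Function.Bijective ((adjunct ψ hψ v hv n).app (Proj.basicOpen ℬ (ψ f))) := by
  have hψf : ψ f ∈ ℬ d := ψ.map_mem hf
  refine ⟨(injective_iff_map_eq_zero _).2 ?_, fun w => ?_⟩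
  · have hraise' : ∀ (l k : ℕ) (y : N), Φ (k + l) (ψ f ^ l • y) = Φ k y := by
      intro l
      induction l with
      | zero => intro k y; rw [pow_zero, one_smul, add_zero]
      | succ l ih => intro k y; rw [pow_succ', mul_smul, ← add_assoc, hraise, ih]
    let φ := Proj.map ψ hψ
    let T := pullTop (ℳ := ℳ) ψ hψ n f
    let hle := preimage_basicOpen_le ψ hψ f
    letI := (φ.appLE (Proj.basicOpen 𝒜 f) (Proj.basicOpen ℬ (ψ f)) hle).hom.toAlgebra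
    letI : Module Γ(Proj 𝒜, Proj.basicOpen 𝒜 f) T :=
      Module.compHom _ (φ.appLE (Proj.basicOpen 𝒜 f) (Proj.basicOpen ℬ (ψ f)) hle).hom
    haveI : IsScalarTower Γ(Proj 𝒜, Proj.basicOpen 𝒜 f) Γ(Proj ℬ, Proj.basicOpen ℬ (ψ f)) T :=
      ⟨fun a b c => mul_smul ((φ.appLE (Proj.basicOpen 𝒜 f) (Proj.basicOpen ℬ (ψ f)) hle).hom a) b c⟩
    let L : Γ(GrMod.tilde 𝒜 ℳ n, Proj.basicOpen 𝒜 f) →ₗ[Γ(Proj 𝒜, Proj.basicOpen 𝒜 f)] T :=
      { toFun := pullSec φ (GrMod.tilde 𝒜 ℳ n) hle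
        map_add' := pullSec_add φ _ hle
        map_smul' := pullSec_smul φ _ hle }
    have hbc : IsBaseChange Γ(Proj ℬ, Proj.basicOpen ℬ (ψ f)) L :=
      QCoh.isBaseChange_pullback (Proj.isAffineOpen_basicOpen 𝒜 f hf hd) φ
        (Proj.isAffineOpen_basicOpen ℬ _ hψf hd) (isQCoh_tilde 𝒜 ℳ n) hle (fun _ => rfl) L fun _ => rfl
    have key : ∀ z : T, ∃ (K : ℕ) (y : N), Deg 𝒩 ((K : ℤ) * d + n) y ∧ z = Φ K y := by
      intro z
      suffices h : ∀ c : Γ(Proj ℬ, Proj.basicOpen ℬ (ψ f)),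
          ∃ (K : ℕ) (y : N), Deg 𝒩 ((K : ℤ) * d + n) y ∧ c • z = Φ K y by
        simpa using h 1
      induction z using hbc.inductionOn with
      | zero => intro c; exact ⟨0, 0, Or.inl rfl, by rw [smul_zero, map_zero]⟩
      | tmul x =>
        intro c
        obtain ⟨k, m, hm, rfl⟩ := exists_eq_frac 𝒜 ℳ hf n hd x
        obtain ⟨l, b, hb, rfl⟩ := exists_eq_cf ℬ hψf hd c
        rcases hm with rfl | ⟨j, hj, hmem⟩
        · exact ⟨0, 0, Or.inl rfl, by rw [map_zero, map_zero, smul_zero, map_zero]⟩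
        · exact ⟨k + l, b • v m, ((deg_of_mem (hv j m hmem)).smul ℬ hb).congr
            (by push_cast [smul_eq_mul]; linarith), (hmul k l b hb j m hmem hj).symm⟩
      | smul c' z ih => intro c; rw [smul_smul]; exact ih _
      | add z z' ih ih' =>
        intro c
        obtain ⟨K, y, hy, e⟩ := ih c
        obtain ⟨K', y', hy', e'⟩ := ih' c
        refine ⟨K + K', ψ f ^ K' • y + ψ f ^ K • y',
          Deg.add ((hy.smul ℬ (SetLike.pow_mem_graded K' hψf)).congr (by push_cast [smul_eq_mul]; ring))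
            ((hy'.smul ℬ (SetLike.pow_mem_graded K hψf)).congr (by push_cast [smul_eq_mul]; ring)), ?_⟩
        rw [smul_add, e, e', map_add, hraise', add_comm K K', hraise']
    intro z hz
    obtain ⟨K, y, hy, rfl⟩ := key z
    rw [happ] at hz
    obtain ⟨P, hP⟩ := exists_pow_smul_of_frac_eq_zero ℬ 𝒩 hψf n hd hy hz
    rw [← hraise' P K y, hP, map_zero]
  · obtain ⟨k, y, -, rfl⟩ := exists_eq_frac ℬ 𝒩 (ψ.map_mem hf) n hd w
    exact ⟨Φ k y, happ k y⟩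

include hψ in
lemma exists_mem_basicOpen_map (y : Proj ℬ) :
    ∃ (g : A) (e : ℕ), 0 < e ∧ g ∈ 𝒜 e ∧ y ∈ Proj.basicOpen ℬ (ψ g) := by
  obtain ⟨g, e, he, hg, hy, -⟩ := exists_basicOpen_le 𝒜 (V := (⊤ : (Proj 𝒜).Opens))
    (y := ProjectiveSpectrum.comap ψ hψ y) trivial
  exact ⟨g, e, he, hg, hy⟩

/-- The adjunct is an isomorphism when it is bijective on enough basic opens. -/
theorem isIso_adjunct_of_bijective {ι : Type*} (g : ι → A) (e : ι → ℕ) (he : ∀ i, 0 < e i)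
    (hg : ∀ i, g i ∈ 𝒜 (e i)) (hcov : ∀ y : Proj ℬ, ∃ i, y ∈ Proj.basicOpen ℬ (ψ (g i)))
    (h : ∀ i, Function.Bijective ((adjunct ψ hψ v hv n).app (Proj.basicOpen ℬ (ψ (g i))))) :
    IsIso (adjunct ψ hψ v hv n) :=
  isIso_of_bijective_affineCover _ (QCoh.isQCoh_pullback _ (isQCoh_tilde 𝒜 ℳ n)) (isQCoh_tilde ℬ 𝒩 n) _ hcov
    (fun i => Proj.isAffineOpen_basicOpen ℬ _ (ψ.map_mem (hg i)) (he i)) h

end Groth.Agent.GrModX
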