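import Groth.Agent.GrModX.AdjunctBC
import Mathlib.RingTheory.IsTensorProduct

/-!
The adjunct of `GrMod.comap` for a base change of modules (degree one charts) and for a base change of rings.
-/

noncomputable section

universe u

open CategoryTheory CategoryTheory.Limits AlgebraicGeometry TopologicalSpace DirectSum Opposite
open scoped HomogeneousIdeal TensorProduct

set_option backward.isDefEq.respectTransparency false
set_option backward.isDefEq.respectTransparency.types false
set_option linter.unusedSectionVars false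
set_option linter.style.haveILetI false

namespace Groth.Agent.GrModX

variable {A σ : Type u} [CommRing A] [SetLike σ A] [AddSubgroupClass σ A] {𝒜 : ℕ → σ} [GradedRing 𝒜]
  {B σ' : Type u} [CommRing B] [SetLike σ' B] [AddSubgroupClass σ' B] {ℬ : ℕ → σ'} [GradedRing ℬ]
  {M τ : Type u} [AddCommGroup M] [Module A M] [SetLike τ M] [AddSubgroupClass τ M] {ℳ : ℕ → τ}
  [SetLike.GradedSMul 𝒜 ℳ] [DirectSum.Decomposition ℳ]
  {N τ' : Type u} [AddCommGroup N] [Module B N] [SetLike τ' N] [AddSubgroupClass τ' N] {𝒩 : ℕ → τ'}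
  [SetLike.GradedSMul ℬ 𝒩] [DirectSum.Decomposition 𝒩]
  (ψ : 𝒜 →+*ᵍ ℬ) (hψ : ℬ₊ ≤ (𝒜₊).map ψ)
  (v : M →ₛₗ[ψ.toRingHom] N) (hv : ∀ (i : ℕ) (m : M), m ∈ ℳ i → v m ∈ 𝒩 i) (n : ℤ)

section degreeOne

variable {f : A} (hf : f ∈ 𝒜 1)

/-- The candidate inverse on a pair `(b, m)`, for `b` homogeneous of degree `i`. -/
def phiHom (k : ℕ) (i : ℕ) : ℬ i →+ M →+ pullTop (ℳ := ℳ) ψ hψ n f :=
  AddMonoidHom.mk'
    (fun b => AddMonoidHom.mk'
      (fun m => cf ℬ (ψ.map_mem hf) i (show (b : B) ∈ ℬ (i • 1) by rw [smul_eq_mul, mul_one]; exact b.2) •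
        pfrac (ℳ := ℳ) ψ hψ n hf k (f ^ i • m))
      fun m m' => by rw [smul_add, map_add, smul_add])
    fun b b' => by
      ext m
      simp only [AddMonoidHom.mk'_apply, AddMonoidHom.add_apply]
      rw [← add_smul]
      refine congrArg (fun c => c • pfrac (ℳ := ℳ) ψ hψ n hf k (f ^ i • m)) ?_
      unfold cf
      rw [← map_add]
      congr 1
      refine HomogeneousLocalization.val_injective _ ?_
      rw [HomogeneousLocalization.val_add, HomogeneousLocalization.Away.val_mk,
        HomogeneousLocalization.Away.val_mk, HomogeneousLocalization.Away.val_mk, Localization.add_mk_self]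
      rfl

/-- The candidate inverse on pairs. -/
def phi (k : ℕ) : B →+ M →+ pullTop (ℳ := ℳ) ψ hψ n f :=
  (DirectSum.toAddMonoid fun i => phiHom (ℳ := ℳ) ψ hψ n hf k i).comp
    (DirectSum.decomposeAddEquiv ℬ).toAddMonoidHom

lemma phi_of_mem (k : ℕ) {i : ℕ} {b : B} (hb : b ∈ ℬ i) (m : M) :
    phi (ℳ := ℳ) ψ hψ n hf k b m =
      cf ℬ (ψ.map_mem hf) i (show b ∈ ℬ (i • 1) by rw [smul_eq_mul, mul_one]; exact hb) •
        pfrac (ℳ := ℳ) ψ hψ n hf k (f ^ i • m) := by
  show (DirectSum.toAddMonoid fun i => phiHom (ℳ := ℳ) ψ hψ n hf k i) (decompose ℬ b) m = _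
  rw [decompose_of_mem ℬ hb]
  rw [DirectSum.toAddMonoid_of]
  rfl

lemma phi_balanced (k : ℕ) (a : A) (b : B) (m : M) :
    phi (ℳ := ℳ) ψ hψ n hf k (ψ a * b) m = phi (ℳ := ℳ) ψ hψ n hf k b (a • m) := by
  induction b using Decomposition.inductionOn ℬ with
  | zero => simp
  | add x y hx hy => simp only [mul_add, map_add, AddMonoidHom.add_apply, hx, hy]
  | @homogeneous i b =>
    induction a using Decomposition.inductionOn 𝒜 with
    | zero => simp
    | add x y hx hy => simp only [map_add, add_mul, add_smul, AddMonoidHom.add_apply, hx, hy]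
    | @homogeneous e a =>
      have ha : (a : A) ∈ 𝒜 (e • 1) := by rw [smul_eq_mul, mul_one]; exact a.2
      have hb : (b : B) ∈ ℬ (i • 1) := by rw [smul_eq_mul, mul_one]; exact b.2
      have hab : ψ (a : A) * (b : B) ∈ ℬ (e + i) := SetLike.mul_mem_graded (ψ.map_mem a.2) b.2
      rw [phi_of_mem (ℳ := ℳ) ψ hψ n hf k hab, phi_of_mem (ℳ := ℳ) ψ hψ n hf k b.2,
        cf_mul ℬ (ψ.map_mem hf) e i (ψ.map_mem ha) hb, mul_comm, mul_smul, ← pfrac_smul ψ hψ n hf k e ha]
      refine congrArg _ ?_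
      rw [← pfrac_raise ψ hψ n hf k e (f ^ i • (a : A) • m), smul_smul, smul_smul, smul_smul]
      congr 2
      rw [pow_add]
      ring

variable (hbc : ∀ (Q : Type u) [AddCommGroup Q] [Module B Q] (w : M →ₛₗ[ψ.toRingHom] Q),
      ∃! g : N →ₗ[B] Q, ∀ m : M, g (v m) = w m)

include hbc in
lemma closure_smul_map (y : N) (P : N → Prop) (h0 : P 0) (hadd : ∀ a b, P a → P b → P (a + b))
    (hmem : ∀ (b : B) (m : M), P (b • v m)) : P y := by
  let S : Submodule B N := Submodule.span B (Set.range v)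
  have hS : ∀ y, y ∈ S := by
    intro y
    obtain ⟨g, -, hu⟩ := hbc (N ⧸ S) { toFun := fun _ => 0, map_add' := by simp, map_smul' := by simp }
    have h1 := hu S.mkQ fun m => (Submodule.Quotient.mk_eq_zero S).2 (Submodule.subset_span ⟨m, rfl⟩)
    have h2 := hu 0 fun _ => rfl
    exact (Submodule.Quotient.mk_eq_zero S).1 (LinearMap.congr_fun (h1.trans h2.symm) y)
  have key : ∀ (c : B), P (c • y) := by
    induction hS y using Submodule.span_induction with
    | mem x hx => obtain ⟨m, rfl⟩ := hx; exact fun c => hmem c m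
    | zero => intro c; rw [smul_zero]; exact h0
    | add a b _ _ ha hb => intro c; rw [smul_add]; exact hadd _ _ (ha c) (hb c)
    | smul r x _ hx => intro c; rw [smul_smul]; exact hx _
  simpa using key 1

include hv hbc hf in
theorem bijective_adjunct_deg_one :
    Function.Bijective ((adjunct ψ hψ v hv n).app (Proj.basicOpen ℬ (ψ f))) := by
  letI : Algebra A B := ψ.toRingHom.toAlgebra
  obtain ⟨e, he, -⟩ := hbc (B ⊗[A] M)
    { toFun := fun m => (1 : B) ⊗ₜ[A] m
      map_add' := TensorProduct.tmul_add 1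
      map_smul' := fun a m => by
        rw [TensorProduct.tmul_smul, TensorProduct.smul_tmul', TensorProduct.smul_tmul', Algebra.smul_def]
        rfl }
  let Φ : ℕ → N →+ pullTop (ℳ := ℳ) ψ hψ n f := fun k =>
    (TensorProduct.liftAddHom (phi (ℳ := ℳ) ψ hψ n hf k) fun a b m => by
      rw [Algebra.smul_def]
      exact phi_balanced (ℳ := ℳ) ψ hψ n hf k a b m).comp e.toAddMonoidHom
  have hΦ : ∀ (k : ℕ) (b : B) (m : M), Φ k (b • v m) = phi (ℳ := ℳ) ψ hψ n hf k b m := by
    intro k b m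
    simp only [Φ, AddMonoidHom.comp_apply, LinearMap.toAddMonoidHom_coe]
    rw [map_smul, he]
    simp only [LinearMap.coe_mk, AddHom.coe_mk, TensorProduct.smul_tmul', smul_eq_mul, mul_one,
      TensorProduct.liftAddHom_tmul]
  refine bijective_adjunct_of_inverse ψ hψ v hv n hf Nat.one_pos Φ ?_ ?_ ?_
  · intro k l b hb j m hm hj
    have hb' : b ∈ ℬ l := by simpa using hb
    rw [hΦ, phi_of_mem (ℳ := ℳ) ψ hψ n hf (k + l) hb', pfrac_raise]
  · intro k y
    refine closure_smul_map ψ v hbc y (fun y => Φ (k + 1) (ψ f • y) = Φ k y) ?_ ?_ ?_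
    · rw [smul_zero, map_zero, map_zero]
    · intro a b ha hb; rw [smul_add, map_add, map_add, ha, hb]
    · intro b m
      rw [smul_smul, hΦ, hΦ, phi_balanced (ℳ := ℳ) ψ hψ n hf]
      clear hΦ
      induction b using Decomposition.inductionOn ℬ with
      | zero => simp
      | add x y hx hy => simp only [map_add, AddMonoidHom.add_apply, hx, hy]
      | @homogeneous i x =>
        rw [phi_of_mem (ℳ := ℳ) ψ hψ n hf _ x.2, phi_of_mem (ℳ := ℳ) ψ hψ n hf _ x.2, smul_smul, ← pow_succ,
          pow_succ', mul_smul]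
        have h := pfrac_raise (ℳ := ℳ) ψ hψ n hf k 1 (f ^ i • m)
        rw [pow_one] at h
        rw [h]
  · intro k y
    refine closure_smul_map ψ v hbc y (fun y => (adjunct ψ hψ v hv n).app _ (Φ k y) =
      frac ℬ 𝒩 (ψ.map_mem hf) n k y) ?_ ?_ ?_
    · rw [map_zero, map_zero, map_zero]
    · intro a b ha hb; rw [map_add, map_add, map_add, ha, hb]
    · intro b m
      rw [hΦ]
      clear hΦ
      induction b using Decomposition.inductionOn ℬ with
      | zero =>
        rw [map_zero, zero_smul, map_zero, AddMonoidHom.zero_apply, map_zero]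
      | add x y hx hy => simp only [map_add, add_smul, AddMonoidHom.add_apply, hx, hy]
      | @homogeneous i x =>
        rw [phi_of_mem (ℳ := ℳ) ψ hψ n hf _ x.2, Scheme.Modules.Hom.app_smul, adjunct_pfrac, frac_smul,
          map_smulₛₗ v, smul_comm, ← frac_raise ℬ 𝒩 (ψ.map_mem hf) n k i ((x : B) • v m)]
        congr 2
        show ψ (f ^ i) = ψ f ^ i
        rw [map_pow]

end degreeOne

end Groth.Agent.GrModX

namespace Groth.Agent.GrModX

variable {A σ : Type u} [CommRing A] [SetLike σ A] [AddSubgroupClass σ A] {𝒜 : ℕ → σ} [GradedRing 𝒜]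
  {B σ' : Type u} [CommRing B] [SetLike σ' B] [AddSubgroupClass σ' B] {ℬ : ℕ → σ'} [GradedRing ℬ]
  (ψ : 𝒜 →+*ᵍ ℬ) (hψ : ℬ₊ ≤ (𝒜₊).map ψ) (n : ℤ)

/-- A graded ring homomorphism as a semilinear map. -/
def ringSemilinear : A →ₛₗ[ψ.toRingHom] B where
  toFun := ψ
  map_add' := map_add ψ
  map_smul' a b := map_mul ψ a b

lemma ringSemilinear_mem (i : ℕ) (a : A) (ha : a ∈ 𝒜 i) : ringSemilinear ψ a ∈ ℬ i := ψ.map_mem ha

variable {R R' : Type u} [CommRing R] [CommRing R'] [Algebra R R'] [Algebra R A] [Algebra R' B] [Algebra R B]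
  [IsScalarTower R R' B]
  (hA : ∀ r : R, algebraMap R A r ∈ 𝒜 0) (hB : ∀ r : R', algebraMap R' B r ∈ ℬ 0)
  (l : A →ₐ[R] B) (hl : ∀ a, l a = ψ a) (hbc : IsBaseChange R' l.toLinearMap)

include hA hB hl hbc in
theorem isIso_adjunct_baseChange :
    IsIso (adjunct (ℳ := 𝒜) (𝒩 := ℬ) ψ hψ (ringSemilinear ψ) (ringSemilinear_mem ψ) n) := by
  let ι : Type u := {p : A × ℕ // 0 < p.2 ∧ p.1 ∈ 𝒜 p.2}
  refine isIso_adjunct_of_bijective (ℳ := 𝒜) (𝒩 := ℬ) ψ hψ _ (ringSemilinear_mem ψ) n
    (ι := ι) (fun p => p.1.1) (fun p => p.1.2) (fun p => p.2.1) (fun p => p.2.2) (fun y => ?_) ?_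
  · obtain ⟨g, e, he, hg, hy⟩ := exists_mem_basicOpen_map ψ hψ y
    exact ⟨⟨(g, e), he, hg⟩, hy⟩
  rintro ⟨⟨f, d⟩, hd, hf⟩
  simp only
  have hr : ∀ r : R', algebraMap R' B r ∈ ℬ (0 • d) := fun r => by rw [zero_smul]; exact hB r
  have hcomm : ∀ r : R, ψ (algebraMap R A r) = algebraMap R B r := fun r => by rw [← hl, AlgHom.commutes]
  let P : ℕ → R' →+ A →+ pullTop (ℳ := 𝒜) ψ hψ n f := fun k =>
    AddMonoidHom.mk'
      (fun r => (DistribMulAction.toAddMonoidHom _ (cf ℬ (ψ.map_mem hf) 0 (hr r))).comp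
        (pfrac (ℳ := 𝒜) ψ hψ n hf k))
      fun r r' => by
        ext a
        simp only [AddMonoidHom.comp_apply, AddMonoidHom.add_apply, DistribMulAction.toAddMonoidHom_apply]
        rw [← add_smul]
        refine congrArg (fun c => c • pfrac (ℳ := 𝒜) ψ hψ n hf k a) ?_
        unfold cf
        rw [← map_add]
        congr 1
        refine HomogeneousLocalization.val_injective _ ?_
        rw [HomogeneousLocalization.val_add, HomogeneousLocalization.Away.val_mk,
          HomogeneousLocalization.Away.val_mk, HomogeneousLocalization.Away.val_mk, Localization.add_mk_self,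
          map_add]
  have hP : ∀ k (r : R) (r' : R') (a : A), P k (r • r') a = P k r' (r • a) := by
    intro k r r' a
    show cf ℬ (ψ.map_mem hf) 0 (hr (r • r')) • pfrac (ℳ := 𝒜) ψ hψ n hf k a =
      cf ℬ (ψ.map_mem hf) 0 (hr r') • pfrac (ℳ := 𝒜) ψ hψ n hf k (r • a)
    have hra : algebraMap R A r ∈ 𝒜 (0 • d) := by rw [zero_smul]; exact hA r
    have h := pfrac_smul (ℳ := 𝒜) ψ hψ n hf k 0 hra a
    rw [smul_eq_mul, add_zero] at h
    rw [Algebra.smul_def (A := A), h, smul_smul, ← cf_mul ℬ (ψ.map_mem hf) 0 0 (hr r') (ψ.map_mem hra)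
      (SetLike.mul_mem_graded (hr r') (ψ.map_mem hra) |> fun h => by simpa using h)]
    congr 1
    refine cf_eq_of_mul ℬ (ψ.map_mem hf) _ _ _ _ ?_
    erw [hcomm]
    rw [Algebra.smul_def, map_mul, ← IsScalarTower.algebraMap_apply R R' B]
    simp [mul_comm]
  let Φ : ℕ → B →+ pullTop (ℳ := 𝒜) ψ hψ n f := fun k =>
    (TensorProduct.liftAddHom (P k) (hP k)).comp hbc.equiv.symm.toLinearMap.toAddMonoidHom
  have hΦ : ∀ (k : ℕ) (r : R') (a : A),
      Φ k (algebraMap R' B r * ψ a) = cf ℬ (ψ.map_mem hf) 0 (hr r) • pfrac (ℳ := 𝒜) ψ hψ n hf k a := by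
    intro k r a
    have : hbc.equiv.symm (algebraMap R' B r * ψ a) = r ⊗ₜ[R] a := by
      rw [LinearEquiv.symm_apply_eq, IsBaseChange.equiv_tmul]
      show _ = r • l a
      rw [hl, Algebra.smul_def]
    simp only [Φ, AddMonoidHom.comp_apply, LinearMap.toAddMonoidHom_coe, LinearEquiv.coe_coe]
    rw [this, TensorProduct.liftAddHom_tmul]
    rfl
  have hgen : ∀ (p : B → Prop), p 0 → (∀ a b, p a → p b → p (a + b)) →
      (∀ (r : R') (a : A), p (algebraMap R' B r * ψ a)) → ∀ y, p y := by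
    intro p h0 hadd hmem y
    suffices h : ∀ r : R', p (r • y) by simpa using h 1
    induction y using hbc.inductionOn with
    | zero => intro r; rw [smul_zero]; exact h0
    | tmul a =>
      intro r
      rw [Algebra.smul_def]
      show p (_ * l a)
      rw [hl]
      exact hmem r a
    | smul c y ih => intro r; rw [smul_smul]; exact ih _
    | add y z hy hz => intro r; rw [smul_add]; exact hadd _ _ (hy r) (hz r)
  refine bijective_adjunct_of_inverse (ℳ := 𝒜) (𝒩 := ℬ) ψ hψ _ (ringSemilinear_mem ψ) n hf hd Φ ?_ ?_ ?_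
  · intro k e b hb j m hm hj
    suffices h : ∀ y : B, Φ (k + e) (y * ψ m) =
        cf ℬ (ψ.map_mem hf) e (show (decompose ℬ y (e • d) : B) ∈ ℬ (e • d) from SetLike.coe_mem _) •
          pfrac (ℳ := 𝒜) ψ hψ n hf k m by
      refine (h b).trans ?_
      congr 1
      exact cf_congr ℬ _ e _ _ (decompose_of_mem_same ℬ hb)
    refine hgen _ ?_ ?_ ?_
    · have h0 : cf ℬ (ψ.map_mem hf) e (zero_mem (ℬ (e • d))) = 0 := by
        unfold cf
        rw [← map_zero (Proj.awayToSection ℬ (ψ f)).hom]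
        congr 1
        refine HomogeneousLocalization.val_injective _ ?_
        rw [HomogeneousLocalization.Away.val_mk, HomogeneousLocalization.val_zero, Localization.mk_zero]
      rw [zero_mul, map_zero, cf_congr ℬ _ e _ (zero_mem (ℬ (e • d))) (by simp), h0, zero_smul]
    · intro a b ha hb
      rw [add_mul, map_add, ha, hb, ← add_smul]
      refine congrArg (fun c => c • pfrac (ℳ := 𝒜) ψ hψ n hf k m) ?_
      unfold cf
      rw [← map_add]
      congr 1
      refine HomogeneousLocalization.val_injective _ ?_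
      rw [HomogeneousLocalization.val_add, HomogeneousLocalization.Away.val_mk,
        HomogeneousLocalization.Away.val_mk, HomogeneousLocalization.Away.val_mk, Localization.add_mk_self,
        decompose_add, DirectSum.add_apply, AddMemClass.coe_add]
    · intro r a
      rw [mul_assoc, ← map_mul, hΦ, ← pfrac_pz]
      have ha' : (decompose 𝒜 a (e • d) : A) ∈ 𝒜 (e • d) := SetLike.coe_mem _
      have hp : pz 𝒜 (((k + e : ℕ) : ℤ) * d + n) (a * m) = (decompose 𝒜 a (e • d) : A) • m := by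
        rw [mul_comm a m, show m * a = m • a from rfl,
          pz_smul 𝒜 𝒜 hm (z := ((e • d : ℕ) : ℤ)) (by push_cast [smul_eq_mul]; linarith)]
        rw [pz, if_pos (Int.natCast_nonneg _), Int.toNat_natCast, smul_eq_mul, smul_eq_mul]
        exact mul_comm m _
      rw [hp, pfrac_smul ψ hψ n hf k e ha' m, smul_smul,
        ← cf_mul ℬ (ψ.map_mem hf) 0 e (hr r) (ψ.map_mem ha')
          (by simpa using SetLike.mul_mem_graded (hB r) (ψ.map_mem ha'))]
      refine congrArg (fun c => c • pfrac (ℳ := 𝒜) ψ hψ n hf k m) ?_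
      refine cf_eq_of_mul ℬ (ψ.map_mem hf) _ _ _ _ ?_
      rw [zero_add]
      refine congrArg _ ?_
      rw [coe_decompose_mul_of_left_mem_zero ℬ (hB r)]
      refine congrArg _ ?_
      have := pz_map (ℳ := 𝒜) (𝒩 := ℬ) ψ (ringSemilinear ψ) (ringSemilinear_mem ψ) ((e • d : ℕ) : ℤ) a
      simpa [pz, ringSemilinear] using this.symm
  · intro k
    refine hgen _ ?_ ?_ ?_
    · rw [smul_zero, map_zero, map_zero]
    · intro a b ha hb; rw [smul_add, map_add, map_add, ha, hb]
    · intro r a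
      rw [smul_eq_mul, mul_left_comm, ← map_mul, hΦ, hΦ]
      have h := pfrac_raise (ℳ := 𝒜) ψ hψ n hf k 1 a
      rw [pow_one, smul_eq_mul] at h
      rw [h]
  · intro k
    refine hgen _ ?_ ?_ ?_
    · rw [map_zero, map_zero, map_zero]
    · intro a b ha hb; rw [map_add, map_add, map_add, ha, hb]
    · intro r a
      rw [hΦ, Scheme.Modules.Hom.app_smul, adjunct_pfrac, frac_smul, add_zero]
      rfl

end Groth.Agent.GrModX
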