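import Mathlib.RingTheory.IsTensorProduct

/-!
Transfer of bijectivity between two maps out of base changes.
-/

universe u

namespace Groth.Agent.GrModX

variable {R S R₀ S₀ : Type u} [CommRing R] [CommRing S] [CommRing R₀] [CommRing S₀] [Algebra R S] [Algebra R₀ S₀]
  (ιR : R ≃+* R₀) (ιS : S ≃+* S₀) (hι : ∀ r, ιS (algebraMap R S r) = algebraMap R₀ S₀ (ιR r))
  {M T N : Type u} [AddCommGroup M] [Module R M] [AddCommGroup T] [Module R T] [Module S T] [IsScalarTower R S T]
  [AddCommGroup N] [Module S N]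
  {M₀ T₀ N₀ : Type u} [AddCommGroup M₀] [Module R₀ M₀] [AddCommGroup T₀] [Module R₀ T₀] [Module S₀ T₀]
  [IsScalarTower R₀ S₀ T₀] [AddCommGroup N₀] [Module S₀ N₀]
  {p : M →ₗ[R] T} (hp : IsBaseChange S p) {p₀ : M₀ →ₗ[R₀] T₀} (hp₀ : IsBaseChange S₀ p₀)
  (eM : M ≃+ M₀) (heM : ∀ (r : R) (m : M), eM (r • m) = ιR r • eM m)
  (eN : N ≃+ N₀) (heN : ∀ (s : S) (x : N), eN (s • x) = ιS s • eN x)

include hι hp hp₀ heM heN in
/-- Bijectivity transfers along isomorphic data. -/
theorem bijective_transfer (σ : T → N) (σ0 : T₀ → N₀) (hadd : ∀ a b, σ (a + b) = σ a + σ b)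
    (hsmul : ∀ (s : S) a, σ (s • a) = s • σ a) (hadd₀ : ∀ a b, σ0 (a + b) = σ0 a + σ0 b)
    (hsmul₀ : ∀ (s : S₀) a, σ0 (s • a) = s • σ0 a) (hsq : ∀ m, σ0 (p₀ (eM m)) = eN (σ (p m)))
    (h : Function.Bijective σ0) : Function.Bijective σ := by
  have h0 : σ 0 = 0 := by simpa using hadd 0 0
  have h00 : σ0 0 = 0 := by simpa using hadd₀ 0 0
  let : Module S T₀ := Module.compHom T₀ ιS.toRingHom
  let : Module R T₀ := Module.compHom T₀ (ιS.toRingHom.comp (algebraMap R S))
  have : IsScalarTower R S T₀ := IsScalarTower.of_algebraMap_smul fun _ _ => rfl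
  let : Module S₀ T := Module.compHom T ιS.symm.toRingHom
  let : Module R₀ T := Module.compHom T (ιS.symm.toRingHom.comp (algebraMap R₀ S₀))
  have : IsScalarTower R₀ S₀ T := IsScalarTower.of_algebraMap_smul fun _ _ => rfl
  let Λ : M →ₗ[R] T₀ :=
    { toFun := fun m => p₀ (eM m)
      map_add' := fun m m' => by rw [map_add, map_add]
      map_smul' := fun r m => by
        rw [heM, map_smul, RingHom.id_apply]
        show ιR r • p₀ (eM m) = ιS (algebraMap R S r) • p₀ (eM m)
        rw [hι, algebraMap_smul] }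
  let Λ' : M₀ →ₗ[R₀] T :=
    { toFun := fun m => p (eM.symm m)
      map_add' := fun m m' => by rw [map_add, map_add]
      map_smul' := fun r m => by
        obtain ⟨r, rfl⟩ := ιR.surjective r
        obtain ⟨m, rfl⟩ := eM.surjective m
        rw [← heM, eM.symm_apply_apply, eM.symm_apply_apply, map_smul, RingHom.id_apply]
        show r • p m = ιS.symm (algebraMap R₀ S₀ (ιR r)) • p m
        rw [← hι, ιS.symm_apply_apply, algebraMap_smul] }
  let F := hp.lift Λ
  let G := hp₀.lift Λ'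
  have hF : ∀ z : T, eN (σ z) = σ0 (F z) ∧ G (F z) = z := by
    intro z
    induction z using hp.inductionOn with
    | zero => exact ⟨by rw [h0, map_zero, map_zero, h00], by rw [map_zero, map_zero]⟩
    | tmul m =>
      have e1 : F (p m) = p₀ (eM m) := hp.lift_eq Λ m
      refine ⟨by rw [e1, hsq], ?_⟩
      rw [e1]
      refine (hp₀.lift_eq Λ' (eM m)).trans ?_
      exact congrArg p (eM.symm_apply_apply m)
    | smul s z ih =>
      have e1 : F (s • z) = ιS s • F z := F.map_smul s z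
      refine ⟨by rw [e1, hsmul, heN, hsmul₀, ih.1], ?_⟩
      rw [e1, G.map_smul, ih.2]
      show ιS.symm (ιS s) • z = s • z
      rw [ιS.symm_apply_apply]
    | add a b ha hb =>
      refine ⟨by rw [hadd, map_add, map_add, hadd₀, ha.1, hb.1], by rw [map_add, map_add, ha.2, hb.2]⟩
  refine ⟨fun a b e => ?_, fun y => ?_⟩
  · have e' := congrArg eN e
    rw [(hF a).1, (hF b).1] at e'
    rw [← (hF a).2, ← (hF b).2, h.1 e']
  · obtain ⟨z₀, hz₀⟩ := h.2 (eN y)
    suffices hs : ∀ z₀, ∃ z, eN (σ z) = σ0 z₀ by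
      obtain ⟨z, hz⟩ := hs z₀
      exact ⟨z, eN.injective (hz.trans hz₀)⟩
    intro w
    induction w using hp₀.inductionOn with
    | zero => exact ⟨0, by rw [h0, map_zero, h00]⟩
    | tmul m =>
      obtain ⟨m, rfl⟩ := eM.surjective m
      exact ⟨p m, (hsq m).symm⟩
    | smul s z ih =>
      obtain ⟨w', hw'⟩ := ih
      obtain ⟨s, rfl⟩ := ιS.surjective s
      exact ⟨s • w', by rw [hsmul, heN, hsmul₀, hw']⟩
    | add a b ha hb =>
      obtain ⟨a', ha'⟩ := ha
      obtain ⟨b', hb'⟩ := hb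
      exact ⟨a' + b', by rw [hadd, map_add, hadd₀, ha', hb']⟩

end Groth.Agent.GrModX
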